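import Cfsg.Agent.H302.Van.JTwoTools
import Cfsg.Agent.H678.PV.BlkVan
import Cfsg.Agent.H504.ZerosSt
import Cfsg.Agent.Nodes.RGDClass
import Cfsg.Agent.S0253
import Cfsg.Agent.S0254

/-!
# S4555, S4559: the rows `J₂` (3, 5) and `J₃` (3) (helper302)

* `vOrdP_of_hom`: `x` of order `p`, `C(x)` maps onto `L` with a character of `p`-defect zero, `|C(x)|_p ≤ p |L|_p`, and an
  element `y` of order `p` with `|C(y)| ≠ |C(x)|`;
* `j2_3`, `j2_5`, `j3_3`.
-/

set_option autoImplicit false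

namespace Cfsg.Agent.H302.Van

open Subgroup Cfsg
open Cfsg.Agent.H665.NoPQ (HasDZ)
open Cfsg.Agent.H620.PNorm (VOrdP)

universe u

/-- **Rows for S4559**: the centraliser maps onto a group with a character of defect zero. -/
theorem vOrdP_of_hom {G : Type u} [Group G] [Finite G] {p : ℕ} [hp : Fact p.Prime] {x y : G} (hx : orderOf x = p)
    {L : Type*} [Group L] (f : centralizer ({x} : Set G) →* L) (hf : Function.Surjective f) (hdz : HasDZ p L)
    (hcard : (Nat.card (centralizer ({x} : Set G))).factorization p ≤ (Nat.card L).factorization p + 1)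
    (hy : orderOf y = p) (hne : Nat.card (centralizer ({y} : Set G)) ≠ Nat.card (centralizer ({x} : Set G))) :
    VOrdP p G := by
  obtain ⟨M, hM⟩ := Cfsg.Agent.Blocks.Knorr.exists_isPModular p
  obtain ⟨ϑ, hϑ⟩ := hdz
  have hirr : IsIrrCharacter (centralizer ({x} : Set G)) ((ϑ : L → ℂ) ∘ f) :=
    Cfsg.Agent.Characters.Core.isIrr_comp f hf ϑ.2
  have hdeg : charDegree ((ϑ : L → ℂ) ∘ f) = charDegree (ϑ : L → ℂ) := by
    unfold charDegree
    rw [Function.comp_apply, map_one]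
  obtain ⟨B, hB, hQ⟩ := H678.PV.exists_block_one hM hx ⟨_, hirr⟩ (by
    show _ ≤ (charDegree ((ϑ : L → ℂ) ∘ f)).factorization p + 1
    rw [hdeg, hϑ]
    exact hcard)
  refine ⟨y, hy, H678.PV.vz_of_card_ne hM hB hQ ⟨1, by rw [hy, pow_one]⟩ fun z hz hzo => ?_⟩
  rw [H678.PV.card_centralizer_zpowers hx hz (hzo.trans hy)]
  exact hne.symm

/-- the Steinberg character of `PSL₂` in its own characteristic -/
theorem hasDZ_psl {F : Type} [Field F] [Fintype F] (p : ℕ) [hp : Fact p.Prime] [CharP F p] :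
    HasDZ p (Matrix.ProjectiveSpecialLinearGroup (Fin 2) F) :=
  Cfsg.Agent.H504.Zeros.hasDZ_of_hasSt
    (Cfsg.Agent.H167.StChar.HasSt.of_hasRGD (Cfsg.Agent.Nodes.RGDClass.hasRGD_PSL 1))

theorem hasDZ_alt_five : HasDZ 5 (alternatingGroup (Fin 5)) := by
  have : Fact (Nat.Prime 5) := ⟨by norm_num⟩
  obtain ⟨e⟩ := Cfsg.Agent.S0253.psl_zmod5
  exact Cfsg.Agent.H713.HasDZ.mulEquiv e (hasDZ_psl 5)

theorem hasDZ_alt_six : HasDZ 3 (alternatingGroup (Fin 6)) := by
  have : Fact (Nat.Prime 3) := ⟨Nat.prime_three⟩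
  let _ : Fintype (GaloisField 3 2) := Fintype.ofFinite _
  have hF : Fintype.card (GaloisField 3 2) = 9 := by
    rw [← Nat.card_eq_fintype_card, GaloisField.card 3 2 (by norm_num)]
    norm_num
  obtain ⟨e⟩ := Cfsg.Agent.S0254.result hF
  exact Cfsg.Agent.H713.HasDZ.mulEquiv e (hasDZ_psl 3)

theorem card_alt (n : ℕ) (hn : 2 ≤ n) : 2 * Nat.card (alternatingGroup (Fin n)) = n.factorial := by
  have : Nontrivial (Fin n) := Fin.nontrivial_iff_two_le.2 hn
  have h1 := two_mul_nat_card_alternatingGroup (α := Fin n)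
  rwa [Nat.card_perm, Nat.card_fin] at h1

theorem card_five : Nat.card (alternatingGroup (Fin 5)) = 60 := by
  have h1 := card_alt 5 (by norm_num)
  have h2 : Nat.factorial 5 = 120 := rfl
  omega

theorem card_six : Nat.card (alternatingGroup (Fin 6)) = 360 := by
  have h1 := card_alt 6 (by norm_num)
  have h2 : Nat.factorial 6 = 720 := rfl
  omega

theorem fac_le {p a b : ℕ} (hp : p.Prime) (m : ℕ) (ha : a = p ^ (m + 1) * (a / p ^ (m + 1)))
    (hna : ¬ p ∣ a / p ^ (m + 1)) (hb : p ^ m ∣ b) (hb0 : b ≠ 0) :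
    a.factorization p ≤ b.factorization p + 1 := by
  have h0 : a / p ^ (m + 1) ≠ 0 := fun h => hna (h ▸ dvd_zero p)
  have h1 : a.factorization p = m + 1 := by
    rw [ha, Nat.factorization_mul (pow_ne_zero _ hp.ne_zero) h0, hp.factorization_pow, Finsupp.add_apply,
      Finsupp.single_eq_same, Nat.factorization_eq_zero_of_not_dvd hna]
  have h2 : m ≤ b.factorization p := (hp.pow_dvd_iff_le_factorization hb0).1 hb
  omega

/-- **`J₂`, `p = 3`** -/
theorem j2_3 {K : Type u} [Group K] (h : Spor.IsoJ2 K) : VOrdP 3 K := by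
  have : Fact (Nat.Prime 3) := ⟨Nat.prime_three⟩
  obtain ⟨e⟩ := id h
  have := Cfsg.Agent.S1619.result.2.2.2
  have hf0 : Finite Spor.J2 := Nat.finite_of_card_ne_zero (by rw [this]; norm_num)
  have : Finite K := Finite.of_equiv _ e.symm.toEquiv
  obtain ⟨x, y, hx, hy, hcx, hcy, f, hf⟩ := JTwo.three_of_iso h
  refine vOrdP_of_hom hx f hf hasDZ_alt_six ?_ hy (by rw [hcx, hcy]; norm_num)
  rw [hcx, card_six]
  exact fac_le Nat.prime_three 2 (by norm_num) (by norm_num) (by norm_num) (by norm_num)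

/-- **`J₂`, `p = 5`** -/
theorem j2_5 {K : Type u} [Group K] (h : Spor.IsoJ2 K) : VOrdP 5 K := by
  have : Fact (Nat.Prime 5) := ⟨by norm_num⟩
  obtain ⟨e⟩ := id h
  have := Cfsg.Agent.S1619.result.2.2.2
  have hf0 : Finite Spor.J2 := Nat.finite_of_card_ne_zero (by rw [this]; norm_num)
  have : Finite K := Finite.of_equiv _ e.symm.toEquiv
  obtain ⟨x, y, hx, hy, hcx, hcy, f, hf⟩ := JTwo.five_of_iso h
  refine vOrdP_of_hom hx f hf hasDZ_alt_five ?_ hy (fun h1 => hcy ?_)
  · rw [hcx, card_five]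
    exact fac_le (by norm_num) 1 (by norm_num) (by norm_num) (by norm_num) (by norm_num)
  · rw [h1, hcx]
    norm_num

/-- **`J₃`, `p = 3`** -/
theorem j3_3 {K : Type u} [Group K] (h : Spor.IsoJ3 K) : VOrdP 3 K := by
  have : Fact (Nat.Prime 3) := ⟨Nat.prime_three⟩
  have hc := (Cfsg.Agent.CpAutJThree.base h).1
  have : Finite K := Nat.finite_of_card_ne_zero (by rw [hc]; norm_num)
  obtain ⟨x, y, hx, hy, hcx, hcy, f, hf⟩ := JThree.three_of_iso h
  refine vOrdP_of_hom hx f hf hasDZ_alt_six ?_ hy (fun h1 => ?_)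
  · rw [hcx, card_six]
    exact fac_le Nat.prime_three 2 (by norm_num) (by norm_num) (by norm_num) (by norm_num)
  · rw [h1, hcx] at hcy
    revert hcy
    norm_num

end Cfsg.Agent.H302.Van
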