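import Cfsg.Agent.J2Type.ThreeF
import Cfsg.Agent.KFacts.J2.Facts
import Cfsg.Agent.CpAutJThree.Row

/-!
# Centralisers in `J₂` and `J₃` (helper302)

* `six_of_index`: a group of order 360 with a non-normal simple subgroup of order 60 is `A₆`;
* `J2`: `C(3A)` has the quotient `A₆`; `C(5A)` has the quotient `A₅`;
* `J3`: `C(3A)` has the quotient `A₆`.
-/

set_option autoImplicit false

namespace Cfsg.Agent.H302.Van

open Subgroup Cfsg

/-- a group of order 360 with a non-normal simple subgroup of order 60 is `A₆` -/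
theorem six_of_index {X : Type*} [Group X] [Finite X] (hX : Nat.card X = 360) (B : Subgroup X)
    (hB : Nat.card B = 60) [hs : IsSimpleGroup B] (hn : ¬ B.Normal) : Nonempty (X ≃* alternatingGroup (Fin 6)) := by
  classical
  have hcore : B.normalCore = ⊥ := by
    have h1 : (B.normalCore.subgroupOf B).Normal := inferInstance
    rcases h1.eq_bot_or_eq_top with h2 | h2
    · rw [subgroupOf_eq_bot, disjoint_iff, inf_eq_left.2 (normalCore_le B)] at h2
      exact h2
    · exfalso
      rw [subgroupOf_eq_top] at h2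
      apply hn
      rw [le_antisymm h2 (normalCore_le B)]
      exact normalCore_normal B
  have hidx : B.index = 6 := by
    have h1 := B.card_mul_index
    rw [hB, hX] at h1
    omega
  have hfin : Fintype (X ⧸ B) := Fintype.ofFinite _
  have hc6 : Fintype.card (X ⧸ B) = 6 := by
    rw [← Nat.card_eq_fintype_card]; exact hidx
  have hinj : Function.Injective (MulAction.toPermHom X (X ⧸ B)) := by
    rw [← MonoidHom.ker_eq_bot_iff, ← normalCore_eq_ker]
    exact hcore
  have hr : (MulAction.toPermHom X (X ⧸ B)).range.index = 2 := by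
    have h1 := (MulAction.toPermHom X (X ⧸ B)).range.card_mul_index
    rw [Nat.card_perm, show Nat.card (X ⧸ B) = 6 from hidx,
      ← Nat.card_congr (MonoidHom.ofInjective hinj).toEquiv, hX] at h1
    have h2 : Nat.factorial 6 = 720 := rfl
    omega
  have halt : (MulAction.toPermHom X (X ⧸ B)).range = alternatingGroup (X ⧸ B) :=
    Equiv.Perm.eq_alternatingGroup_of_index_eq_two hr
  have e6 : (X ⧸ B) ≃ Fin 6 := Fintype.equivFinOfCardEq hc6
  exact ⟨((MonoidHom.ofInjective hinj).trans (MulEquiv.subgroupCongr halt)).trans (Equiv.altCongrHom e6)⟩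

/-! ### `J₂` -/

namespace JTwo

open Cfsg.Agent.J2Type Cfsg.Agent.J2Type.Base Cfsg.Agent.J2Type.CentU Cfsg.Agent.J2Type.CentQuot

variable {G : Type*} [Group G] [Finite G] {z u f : G} {U V H0 : Subgroup G}

/-- `H₀ ∩ ⟨d⟩ = 1` -/
theorem eq_one_of_mem (h : Fus z u) (F : Full z u f U V H0) {d : G} (hd : orderOf d = 3)
    (hdH : ∀ x ∈ H0, d * x = x * d) {a : G} (ha : a ∈ H0) (had : a ∈ zpowers d) : a = 1 := by
  have h60 := ThreeA.card_H0 h F
  have : Fact (Nat.Prime 5) := ⟨by norm_num⟩
  obtain ⟨e0⟩ := Cent5.exists_equiv h F h60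
  obtain ⟨w, hw⟩ := exists_prime_orderOf_dvd_card' (G := H0) 5 (by rw [h60]; norm_num)
  have hc : a * w = w * a := by
    obtain ⟨k, hk⟩ := mem_zpowers_iff.1 had
    rw [← hk]
    exact ((show Commute d w from hdH w w.2).zpow_left k).eq
  have h3 := A5Facts.mem_zpowers_of_comm e0 (g := w) (x := ⟨a, ha⟩) hw (Subtype.ext hc)
  have h4 := orderOf_dvd_of_mem_zpowers h3
  rw [hw, ← orderOf_coe] at h4
  have h5 : orderOf a ∣ 3 := by rw [← hd]; exact orderOf_dvd_of_mem_zpowers had
  have h6 : orderOf a ∣ Nat.gcd 5 3 := Nat.dvd_gcd h4 h5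
  have h7 : Nat.gcd 5 3 = 1 := rfl
  rw [h7, Nat.dvd_one] at h6
  exact orderOf_eq_one_iff.1 h6

/-- **`C(d) / ⟨d⟩ ≅ A₆`** -/
theorem equiv_six (h : Fus z u) (F : Full z u f U V H0) {d : G} (hd : orderOf d = 3)
    (hdH : ∀ x ∈ H0, d * x = x * d) : Nonempty (CQ d ≃* alternatingGroup (Fin 6)) := by
  have h60 := ThreeA.card_H0 h F
  have hG := Order.card_of_fus h
  have : Fact (Nat.Prime 5) := ⟨by norm_num⟩
  have hle : H0 ≤ centralizer ({d} : Set G) := fun x hx => mem_centralizer_singleton_iff.2 (hdH x hx).symm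
  have hcard := ThreeD.card_centralizer_d h F hd hdH
  have hX : Nat.card (CQ d) = 360 := by
    rw [card_centralizer_eq, hd] at hcard
    omega
  let f0 : H0 →* CQ d := (QuotientGroup.mk' (cyc d)).comp (inclusion hle)
  have hf0 : ∀ a : H0, f0 a = ((inclusion hle a : centralizer ({d} : Set G)) : CQ d) := fun a => rfl
  have hinj : Function.Injective f0 := by
    rw [injective_iff_map_eq_one]
    intro a ha
    rw [hf0, CentQuot.mk_eq_one] at ha
    exact Subtype.ext (eq_one_of_mem h F hd hdH a.2 ha)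
  have hB : Nat.card f0.range = 60 := by
    rw [← h60]
    exact (Nat.card_congr (MonoidHom.ofInjective hinj).toEquiv).symm
  have hs0 := ThreeA.isSimpleGroup_H0 h F
  have hs : IsSimpleGroup f0.range := (MonoidHom.ofInjective hinj).symm.isSimpleGroup
  refine six_of_index hX f0.range hB fun hn => ?_
  obtain ⟨w, hw⟩ := exists_prime_orderOf_dvd_card' (G := H0) 5 (by rw [h60]; norm_num)
  have hw5 : orderOf (w : G) = 5 := by rw [orderOf_coe]; exact hw
  obtain ⟨e⟩ := Cent5.exists_equiv_CQ h F h60 hG w.2 hw5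
  have h15 := ThreeC.card_inf_fifteen e hw5 hd (hdH w w.2)
  have hmem : ∀ g : G, g * d = d * g → g * w * g⁻¹ ∈ H0 := by
    intro g hg
    let gc : centralizer ({d} : Set G) := ⟨g, mem_centralizer_singleton_iff.2 hg⟩
    obtain ⟨a, ha⟩ := hn.conj_mem (f0 w) ⟨w, rfl⟩ (gc : CQ d)
    have h1 : ((gc * inclusion hle w * gc⁻¹ : centralizer ({d} : Set G)) : CQ d) =
        ((inclusion hle a : centralizer ({d} : Set G)) : CQ d) := by
      rw [← hf0 a, ha, hf0, QuotientGroup.mk_mul, QuotientGroup.mk_mul, QuotientGroup.mk_inv]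
    rw [eq_comm, QuotientGroup.eq, mem_cyc] at h1
    have h2 : (a : G)⁻¹ * (g * w * g⁻¹) ∈ zpowers d := h1
    set b : G := (a : G)⁻¹ * (g * w * g⁻¹) with hb
    have hab : g * w * g⁻¹ = a * b := by rw [hb]; group
    have hcomm : Commute (a : G) b := by
      obtain ⟨k, hk⟩ := mem_zpowers_iff.1 h2
      rw [← hk]
      exact ((show Commute (a : G) d from (hdH a a.2).symm).zpow_right k)
    have h5 : (g * w * g⁻¹) ^ 5 = 1 := by
      rw [conj_pow, ← hw5, pow_orderOf_eq_one, mul_one, mul_inv_cancel]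
    rw [hab, hcomm.mul_pow] at h5
    have hb5 : b ^ 5 = 1 := by
      refine eq_one_of_mem h F hd hdH ?_ (pow_mem h2 5)
      have h6 : b ^ 5 = ((a : G) ^ 5)⁻¹ := by
        rw [eq_inv_iff_mul_eq_one]
        rw [← h5]
        exact ((hcomm.pow_pow 5 5).eq).symm
      rw [h6]
      exact inv_mem (pow_mem a.2 5)
    have hb3 : orderOf b ∣ 3 := by rw [← hd]; exact orderOf_dvd_of_mem_zpowers h2
    have hb1 : orderOf b ∣ Nat.gcd 5 3 := Nat.dvd_gcd (orderOf_dvd_of_pow_eq_one hb5) hb3
    have h7 : Nat.gcd 5 3 = 1 := rfl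
    rw [h7, Nat.dvd_one, orderOf_eq_one_iff] at hb1
    rw [hab, hb1, mul_one]
    exact a.2
  -- the conjugates of `w` under `C(d)`
  let C := centralizer ({d} : Set G)
  let S : Subgroup C := (centralizer ({(w : G)} : Set G)).subgroupOf C
  have hmemC : ∀ g : C, (g : G) * d = d * g := fun g => mem_centralizer_singleton_iff.1 g.2
  let φ : C ⧸ S → H0 := Quotient.lift (fun g : C => (⟨(g : G) * w * (g : G)⁻¹, hmem g (hmemC g)⟩ : H0)) (by
    intro a b hab
    have h1 : a⁻¹ * b ∈ S := QuotientGroup.leftRel_apply.1 hab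
    rw [mem_subgroupOf, mem_centralizer_singleton_iff] at h1
    apply Subtype.ext
    show (a : G) * w * (a : G)⁻¹ = (b : G) * w * (b : G)⁻¹
    have h2 : ((a : G)⁻¹ * b) * w = w * ((a : G)⁻¹ * b) := h1
    calc (a : G) * w * (a : G)⁻¹ = a * (w * ((a : G)⁻¹ * b)) * (b : G)⁻¹ := by group
      _ = a * (((a : G)⁻¹ * b) * w) * (b : G)⁻¹ := by rw [h2]
      _ = _ := by group)
  have hφ : Function.Injective φ := by
    intro x y
    induction x using QuotientGroup.induction_on with
    | H a =>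
      induction y using QuotientGroup.induction_on with
      | H b =>
        intro hab
        have h1 : (a : G) * w * (a : G)⁻¹ = (b : G) * w * (b : G)⁻¹ := congrArg Subtype.val hab
        rw [QuotientGroup.eq, mem_subgroupOf, mem_centralizer_singleton_iff]
        show ((a : G)⁻¹ * b) * w = w * ((a : G)⁻¹ * b)
        calc ((a : G)⁻¹ * b) * w = (a : G)⁻¹ * ((b : G) * w * (b : G)⁻¹) * b := by group
          _ = (a : G)⁻¹ * ((a : G) * w * (a : G)⁻¹) * b := by rw [h1]
          _ = _ := by group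
  have h72 := Nat.card_le_card_of_injective φ hφ
  have hS : Nat.card S = 15 := by
    rw [← h15, inf_comm, ← card_map_of_injective (subtype_injective C), subgroupOf_map_subtype, inf_comm]
  have h8 := S.card_mul_index
  rw [hS, show Nat.card C = 1080 from hcard] at h8
  have h9 : Nat.card (C ⧸ S) = S.index := rfl
  rw [h9, h60] at h72
  omega

/-- **The elements of order 3 of a group of type `J₂`** -/
theorem three (h : Fus z u) : ∃ x y : G, orderOf x = 3 ∧ orderOf y = 3 ∧
    Nat.card (centralizer ({x} : Set G)) = 1080 ∧ Nat.card (centralizer ({y} : Set G)) = 36 ∧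
    ∃ φ : centralizer ({x} : Set G) →* alternatingGroup (Fin 6), Function.Surjective φ := by
  obtain ⟨f, U, V, H0, F⟩ := CentU.main h
  obtain ⟨d, hd, hdV, hdH⟩ := ThreeA.exists_d h F
  obtain ⟨e⟩ := equiv_six h F hd hdH
  exact ⟨d, f, hd, F.f_ord, ThreeD.card_centralizer_d h F hd hdH, ThreeD.card_centralizer_f h F hd hdH,
    e.toMonoidHom.comp (QuotientGroup.mk' (cyc d)), e.surjective.comp (QuotientGroup.mk'_surjective _)⟩

/-- **The elements of order 5 of a group of type `J₂`** -/
theorem five (h : Fus z u) : ∃ x y : G, orderOf x = 5 ∧ orderOf y = 5 ∧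
    Nat.card (centralizer ({x} : Set G)) = 300 ∧ ¬ 3 ∣ Nat.card (centralizer ({y} : Set G)) ∧
    ∃ φ : centralizer ({x} : Set G) →* alternatingGroup (Fin 5), Function.Surjective φ := by
  have : Fact (Nat.Prime 5) := ⟨by norm_num⟩
  obtain ⟨f, U, V, H0, F⟩ := CentU.main h
  have hG := Order.card_of_fus h
  have h60 := ThreeA.card_H0 h F
  obtain ⟨w0, hw0, hwz⟩ := ThreeD.exists_w0 h
  obtain ⟨w, hw⟩ := exists_prime_orderOf_dvd_card' (G := H0) 5 (by rw [h60]; norm_num)
  have hw5 : orderOf (w : G) = 5 := by rw [orderOf_coe]; exact hw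
  obtain ⟨e⟩ := Cent5.exists_equiv_CQ h F h60 hG w.2 hw5
  refine ⟨w, w0, hw5, hw0, ?_, ThreeD.not_three_dvd h hw0 hwz,
    e.toMonoidHom.comp (QuotientGroup.mk' (cyc (w : G))), e.surjective.comp (QuotientGroup.mk'_surjective _)⟩
  have h1 := two_mul_nat_card_alternatingGroup (α := Fin 5)
  rw [Nat.card_perm, Nat.card_fin] at h1
  have h2 : Nat.factorial 5 = 120 := rfl
  rw [card_centralizer_eq, hw5, Nat.card_congr e.toEquiv]
  omega

/-- **The elements of order 3 of `J₂`** -/
theorem three_of_iso {K : Type*} [Group K] [Finite K] (h : Spor.IsoJ2 K) : ∃ x y : K, orderOf x = 3 ∧ orderOf y = 3 ∧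
    Nat.card (centralizer ({x} : Set K)) = 1080 ∧ Nat.card (centralizer ({y} : Set K)) = 36 ∧
    ∃ φ : centralizer ({x} : Set K) →* alternatingGroup (Fin 6), Function.Surjective φ := by
  obtain ⟨t, w, Q, v, ρ, D⟩ := KFacts.J2.Facts.exists_dat_of h
  exact three D.F

/-- **The elements of order 5 of `J₂`** -/
theorem five_of_iso {K : Type*} [Group K] [Finite K] (h : Spor.IsoJ2 K) : ∃ x y : K, orderOf x = 5 ∧ orderOf y = 5 ∧
    Nat.card (centralizer ({x} : Set K)) = 300 ∧ ¬ 3 ∣ Nat.card (centralizer ({y} : Set K)) ∧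
    ∃ φ : centralizer ({x} : Set K) →* alternatingGroup (Fin 5), Function.Surjective φ := by
  obtain ⟨t, w, Q, v, ρ, D⟩ := KFacts.J2.Facts.exists_dat_of h
  exact five D.F

end JTwo

/-! ### `J₃` -/

namespace JThree

open Cfsg.Agent.CpAutJThree

/-- **The elements of order 3 of `J₃`** -/
theorem three_of_iso {K : Type*} [Group K] [Finite K] (h : Spor.IsoJ3 K) : ∃ x y : K, orderOf x = 3 ∧ orderOf y = 3 ∧
    Nat.card (centralizer ({x} : Set K)) = 1080 ∧ 3 ^ 5 ∣ Nat.card (centralizer ({y} : Set K)) ∧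
    ∃ φ : centralizer ({x} : Set K) →* alternatingGroup (Fin 6), Function.Surjective φ := by
  have h3p : Fact (Nat.Prime 3) := ⟨Nat.prime_three⟩
  have h2p : Fact (Nat.Prime 2) := ⟨Nat.prime_two⟩
  obtain ⟨hcard, hM, hone, -⟩ := base h
  obtain ⟨x, hx, -, hC⟩ := exc h
  -- a central element of a Sylow 3-subgroup
  obtain ⟨P⟩ : Nonempty (Sylow 3 K) := inferInstance
  have hP : 3 ^ 5 ∣ Nat.card (P : Subgroup K) := P.pow_dvd_card_of_pow_dvd_card (by rw [hcard]; norm_num)
  have hPn : Nontrivial (P : Subgroup K) := by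
    rw [← Finite.one_lt_card_iff_nontrivial]
    exact lt_of_lt_of_le (by norm_num) (Nat.le_of_dvd Nat.card_pos hP)
  have hZ : Nontrivial (center (P : Subgroup K)) := P.isPGroup'.center_nontrivial
  obtain ⟨y, hy⟩ := exists_prime_orderOf_dvd_card' (G := center (P : Subgroup K)) 3 (by
    have h1 : IsPGroup 3 (center (P : Subgroup K)) := P.isPGroup'.to_subgroup _
    obtain ⟨n, hn⟩ := IsPGroup.iff_card.1 h1
    rw [hn]
    refine dvd_pow_self 3 fun h0 => ?_
    rw [h0, pow_zero] at hn
    have h4 := (Finite.one_lt_card_iff_nontrivial (α := center (P : Subgroup K))).2 hZ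
    omega)
  have hy3 : orderOf ((y : (P : Subgroup K)) : K) = 3 := by rw [orderOf_coe, orderOf_coe]; exact hy
  have hle : (P : Subgroup K) ≤ centralizer ({((y : (P : Subgroup K)) : K)} : Set K) := by
    intro a ha
    rw [mem_centralizer_singleton_iff]
    exact congrArg Subtype.val (mem_center_iff.1 y.2 ⟨a, ha⟩)
  refine ⟨x, ((y : (P : Subgroup K)) : K), hx, hy3, hC, hP.trans (card_dvd_of_le hle), ?_⟩
  have memC : ∀ a : K, a ∈ centralizer ({x} : Set K) ↔ a * x = x * a := fun a => mem_centralizer_singleton_iff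
  let c : centralizer ({x} : Set K) := ⟨x, (memC x).2 rfl⟩
  have hc3 : orderOf c = 3 := by rw [← hx]; exact orderOf_mk _ _
  have hcc : ∀ a : centralizer ({x} : Set K), a * c = c * a := fun a => Subtype.ext ((memC a).1 a.2)
  have hZn : (zpowers c).Normal := by
    constructor
    rintro n ⟨k, rfl⟩ g
    refine ⟨k, ?_⟩
    have h1 : Commute g c := hcc g
    have := h1.zpow_right k
    show c ^ k = g * c ^ k * g⁻¹
    rw [this.eq]; group
  have hHD8 := J3Type.Extra.hd8_quotient c hc3 hcc (hD_of_model hM hx)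
  have hq : Nat.card (↥(centralizer ({x} : Set K)) ⧸ zpowers c) = 360 := by
    have := card_eq_card_quotient_mul_card_subgroup (zpowers c)
    rw [hC, Nat.card_zpowers, hc3] at this
    omega
  obtain ⟨s', hs'⟩ := exists_prime_orderOf_dvd_card' (G := ↥(centralizer ({x} : Set K)) ⧸ zpowers c) 2
    (by rw [hq]; norm_num)
  have hsim := J3Type.Extra.isSimple hHD8 hs'
  obtain ⟨e⟩ := Cfsg.Agent.S0497.result hq
  exact ⟨e.toMonoidHom.comp (QuotientGroup.mk' (zpowers c)),
    e.surjective.comp (QuotientGroup.mk'_surjective _)⟩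

end JThree

end Cfsg.Agent.H302.Van
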